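import Mathlib.RingTheory.Etale.Descent
import Mathlib.RingTheory.Etale.Locus
import Mathlib.RingTheory.QuasiFinite.Basic
import Mathlib.RingTheory.Nakayama
import Mathlib.FieldTheory.IsAlgClosed.AlgebraicClosure
import Mathlib.RingTheory.Unramified.Field
import Mathlib.RingTheory.LocalRing.Module

/-!
Finite formally smooth algebras over a field are formally unramified; smooth and quasi-finite at a
prime implies etale at the prime.
-/

set_option autoImplicit false

universe u

open TensorProduct Polynomial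

namespace Groth.Agent.SmoothQF

/-- A finite formally smooth algebra over a field has no nonzero point derivation. -/
theorem pointDerivation_eq_zero {L D : Type u} [Field L] [CommRing D] [Algebra L D]
    [Module.Finite L D] [Algebra.FormallySmooth L D] (φ : D →ₐ[L] L) (δ : D →ₗ[L] L)
    (hδ : ∀ a b, δ (a * b) = φ a * δ b + φ b * δ a) : δ = 0 := by
  have hδ1 : δ 1 = 0 := by
    have h := hδ 1 1
    rw [one_mul, map_one φ, one_mul] at h
    exact left_eq_add.mp h
  by_contra hne
  obtain ⟨a, ha⟩ : ∃ a, δ a ≠ 0 := by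
    by_contra hc
    push Not at hc
    exact hne (LinearMap.ext hc)
  let z := a - algebraMap L D (φ a)
  have hφz : φ z = 0 := by simp [z]
  have hδz : δ z = δ a := by
    simp [z, Algebra.algebraMap_eq_smul_one, hδ1]
  obtain ⟨P, hP, hPz⟩ := Algebra.IsIntegral.isIntegral (R := L) z
  obtain ⟨Q, hQ, hXQ⟩ := Polynomial.exists_eq_pow_rootMultiplicity_mul_and_not_dvd P hP.ne_zero 0
  rw [map_zero, sub_zero] at hQ hXQ
  set j := P.rootMultiplicity 0
  let I2 : Ideal L[X] := Ideal.span {X ^ 2}
  let IN : Ideal L[X] := Ideal.span {X ^ (j + 2)}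
  have hle : IN ≤ I2 := Ideal.span_singleton_le_span_singleton.mpr (pow_dvd_pow X (by omega))
  have hX2 : Ideal.Quotient.mk I2 (X * X) = 0 :=
    Ideal.Quotient.eq_zero_iff_mem.mpr (Ideal.mem_span_singleton.mpr ⟨1, by ring⟩)
  let ψl : D →ₗ[L] L[X] ⧸ I2 := (Ideal.Quotient.mkₐ L I2).toLinearMap ∘ₗ
    ((Algebra.linearMap L L[X]) ∘ₗ φ.toLinearMap + (LinearMap.mulRight L (X : L[X])) ∘ₗ (Algebra.linearMap L L[X]) ∘ₗ δ)
  have hψl : ∀ d, ψl d = Ideal.Quotient.mk I2 (C (φ d) + C (δ d) * X) := fun d => rfl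
  let ψ : D →ₐ[L] L[X] ⧸ I2 := AlgHom.ofLinearMap ψl (by rw [hψl]; simp [hδ1]) (fun x y => by
    rw [hψl, hψl, hψl, ← map_mul, hδ, map_mul φ, C_mul, C_add, C_mul, C_mul]
    rw [show (C (φ x) + C (δ x) * X) * (C (φ y) + C (δ y) * X) =
      C (φ x) * C (φ y) + (C (φ x) * C (δ y) + C (φ y) * C (δ x)) * X + C (δ x) * C (δ y) * (X * X) by ring,
      map_add (Ideal.Quotient.mk I2) _ (C (δ x) * C (δ y) * (X * X)), map_mul (Ideal.Quotient.mk I2) _ (X * X),
      hX2, mul_zero, add_zero])
  have hsur : Function.Surjective (Ideal.Quotient.factorₐ L hle) := Ideal.Quotient.factor_surjective hle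
  have hnil : IsNilpotent (RingHom.ker (Ideal.Quotient.factorₐ L hle).toRingHom) := by
    refine ⟨j + 2, ?_⟩
    rw [show RingHom.ker (Ideal.Quotient.factorₐ L hle).toRingHom = I2.map (Ideal.Quotient.mk IN) from
      Ideal.Quotient.factor_ker hle, ← Ideal.map_pow, Ideal.zero_eq_bot, Ideal.map_eq_bot_iff_le_ker,
      Ideal.mk_ker, Ideal.span_singleton_pow, Ideal.span_singleton_le_span_singleton, ← pow_mul]
    exact pow_dvd_pow X (by omega)
  let Ψ : D →ₐ[L] L[X] ⧸ IN := Algebra.FormallySmooth.liftOfSurjective ψ _ hsur hnil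
  obtain ⟨w, hw⟩ := Ideal.Quotient.mk_surjective (Ψ z)
  have hψz : Ideal.Quotient.mk I2 w = Ideal.Quotient.mk I2 (C (δ a) * X) := by
    have h := Algebra.FormallySmooth.liftOfSurjective_apply ψ _ hsur hnil z
    change (Ideal.Quotient.factorₐ L hle) (Ψ z) = ψl z at h
    rw [← hw, hψl, hφz, hδz, map_zero, zero_add] at h
    exact h
  obtain ⟨r, hr⟩ := Ideal.mem_span_singleton.mp (Ideal.Quotient.eq.mp hψz)
  have hwX : w = X * (C (δ a) + X * r) := by linear_combination hr
  have hu : ¬ X ∣ C (δ a) + X * r := by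
    rw [dvd_add_left (dvd_mul_right X r), X_dvd_iff, coeff_C_zero]
    exact ha
  have hPw : Ideal.Quotient.mk IN (aeval w P) = 0 := by
    rw [← Ideal.Quotient.mkₐ_eq_mk L, ← aeval_algHom_apply, Ideal.Quotient.mkₐ_eq_mk, hw,
      aeval_algHom_apply, show aeval z P = 0 from hPz, map_zero]
  rw [Ideal.Quotient.eq_zero_iff_mem, Ideal.mem_span_singleton, hQ, map_mul, map_pow, aeval_X] at hPw
  have hQw : ¬ X ∣ aeval w Q := by
    intro h
    apply hXQ
    rw [X_dvd_iff] at h ⊢
    rw [coeff_zero_eq_eval_zero] at h ⊢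
    have hw0 : w.eval 0 = 0 := by rw [hwX]; simp
    rw [show aeval w Q = Q.comp w from rfl, eval_comp, hw0] at h
    exact h
  rw [hwX, mul_pow, mul_assoc, pow_add, mul_dvd_mul_iff_left (pow_ne_zero _ X_ne_zero)] at hPw
  have hX : (X : L[X]) ∣ (C (δ a) + X * r) ^ j * aeval (X * (C (δ a) + X * r)) Q :=
    (dvd_pow_self X two_ne_zero).trans hPw
  rcases (Polynomial.prime_X (R := L)).dvd_or_dvd hX with h | h
  · exact hu ((Polynomial.prime_X (R := L)).dvd_of_dvd_pow h)
  · exact hQw (hwX ▸ h)

/-- A finite formally smooth algebra over a field is formally unramified. -/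
theorem formallyUnramified_of_finite {K D : Type u} [Field K] [CommRing D] [Algebra K D]
    [Module.Finite K D] [Algebra.FormallySmooth K D] : Algebra.FormallyUnramified K D := by
  suffices Algebra.FormallyUnramified (AlgebraicClosure K) (AlgebraicClosure K ⊗[K] D) from
    Algebra.FormallyUnramified.of_formallyUnramified_tensorProduct_of_faithfullyFlat (AlgebraicClosure K)
  set L := AlgebraicClosure K
  set E := L ⊗[K] D
  constructor
  let M := Ω[E⁄L]
  rw [← not_nontrivial_iff_subsingleton]
  intro hnt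
  have hann : ((⊤ : Submodule E M).annihilator) ≠ ⊤ := by
    rw [Ne, Submodule.annihilator_eq_top_iff]
    exact top_ne_bot
  obtain ⟨m, hm, hle⟩ := Ideal.exists_le_maximal _ hann
  letI : Field (E ⧸ m) := Ideal.Quotient.field m
  have hb : Function.Bijective (algebraMap L (E ⧸ m)) := IsAlgClosed.algebraMap_bijective_of_isIntegral
  let φ : E →ₐ[L] L := (AlgEquiv.ofBijective (Algebra.ofId L (E ⧸ m)) hb).symm.toAlgHom.comp
    (Ideal.Quotient.mkₐ L m)
  have hφ : ∀ x, x - algebraMap L E (φ x) ∈ m := fun x => by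
    rw [← Ideal.Quotient.mk_eq_mk_iff_sub_mem, Ideal.Quotient.mk_algebraMap]
    exact ((AlgEquiv.ofBijective (Algebra.ofId L (E ⧸ m)) hb).apply_symm_apply _).symm
  let V := M ⧸ m • (⊤ : Submodule E M)
  have hsmul : ∀ (x : E) (v : V), x • v = φ x • v := fun x v => by
    rw [← algebraMap_smul E (φ x) v, ← sub_eq_zero, ← sub_smul]
    obtain ⟨v, rfl⟩ := Submodule.Quotient.mk_surjective _ v
    rw [← Submodule.Quotient.mk_smul, Submodule.Quotient.mk_eq_zero]
    exact Submodule.smul_mem_smul (hφ x) trivial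
  let q : M →ₗ[L] V := (m • (⊤ : Submodule E M)).mkQ.restrictScalars L
  have hq : ∀ x, q (KaehlerDifferential.D L E x) = 0 := by
    intro x
    rw [← Module.forall_dual_apply_eq_zero_iff L]
    intro g
    have h := pointDerivation_eq_zero φ (g ∘ₗ q ∘ₗ (KaehlerDifferential.D L E).toLinearMap) fun c d => by
      show g (q (KaehlerDifferential.D L E (c * d))) =
        φ c * g (q (KaehlerDifferential.D L E d)) + φ d * g (q (KaehlerDifferential.D L E c))
      rw [Derivation.leibniz, map_add, map_add,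
        show q (c • KaehlerDifferential.D L E d) = φ c • q (KaehlerDifferential.D L E d) from
          (map_smul (m • (⊤ : Submodule E M)).mkQ c _).trans (hsmul c _),
        show q (d • KaehlerDifferential.D L E c) = φ d • q (KaehlerDifferential.D L E c) from
          (map_smul (m • (⊤ : Submodule E M)).mkQ d _).trans (hsmul d _),
        map_smul, map_smul, smul_eq_mul, smul_eq_mul]
    exact LinearMap.congr_fun h x
  have htop : (⊤ : Submodule E M) ≤ m • ⊤ := by
    rw [← KaehlerDifferential.span_range_derivation, Submodule.span_le]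
    rintro _ ⟨x, rfl⟩
    rw [KaehlerDifferential.span_range_derivation]
    exact (Submodule.Quotient.mk_eq_zero _).mp (hq x)
  obtain ⟨r, hr, hr0⟩ := Submodule.exists_sub_one_mem_and_smul_eq_zero_of_fg_of_le_smul m ⊤
    Module.Finite.fg_top htop
  have hrm : r ∈ m := hle (Submodule.mem_annihilator.mpr hr0)
  exact hm.ne_top ((Ideal.eq_top_iff_one m).mpr (by simpa using m.sub_mem hrm hr))

/-- Smooth and quasi-finite at a prime implies etale at the prime. -/
theorem isEtaleAt_of_isSmoothAt_of_quasiFiniteAt {A B : Type u} [CommRing A] [CommRing B]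
    [Algebra A B] [Algebra.EssFiniteType A B] (q : Ideal B) [q.IsPrime] [Algebra.QuasiFiniteAt A q]
    (h : Algebra.IsSmoothAt A q) : Algebra.IsEtaleAt A q := by
  let Sq := Localization.AtPrime q
  haveI : Algebra.FormallySmooth A Sq := h
  haveI : Algebra.QuasiFinite A Sq := ‹Algebra.QuasiFiniteAt A q›
  haveI : Algebra.EssFiniteType A Sq := .comp A B _
  let p := q.under A
  haveI : Module.Finite p.ResidueField (p.Fiber Sq) := inferInstance
  haveI : Algebra.FormallySmooth p.ResidueField (p.ResidueField ⊗[A] Sq) := inferInstance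
  haveI : Algebra.FormallyUnramified p.ResidueField (p.ResidueField ⊗[A] Sq) :=
    formallyUnramified_of_finite (K := p.ResidueField) (D := p.ResidueField ⊗[A] Sq)
  let _ : Algebra Sq (p.ResidueField ⊗[A] Sq) := Algebra.TensorProduct.rightAlgebra
  have hzero : Subsingleton (p.ResidueField ⊗[A] Ω[Sq⁄A]) :=
    (KaehlerDifferential.tensorKaehlerEquivBase A p.ResidueField Sq (p.ResidueField ⊗[A] Sq)).subsingleton
  haveI : Algebra.FormallyUnramified A Sq := by
    constructor
    rw [← IsLocalRing.subsingleton_tensorProduct (R := Sq)]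
    refine subsingleton_of_forall_eq 0 fun x => ?_
    induction x using TensorProduct.induction_on with
    | zero => rfl
    | add a b ha hb => rw [ha, hb, add_zero]
    | tmul c y =>
      obtain ⟨c, rfl⟩ := IsLocalRing.residue_surjective c
      let ι : p.ResidueField →ₐ[A] q.ResidueField := Ideal.ResidueField.mapₐ p q (Algebra.ofId A B) rfl
      let T : p.ResidueField ⊗[A] Ω[Sq⁄A] →ₗ[A] q.ResidueField ⊗[Sq] Ω[Sq⁄A] :=
        (TensorProduct.mapOfCompatibleSMul Sq A A q.ResidueField Ω[Sq⁄A]) ∘ₗ
          TensorProduct.map ι.toLinearMap LinearMap.id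
      have h1 : T ((1 : p.ResidueField) ⊗ₜ y) = (1 : q.ResidueField) ⊗ₜ[Sq] y := by
        simp [T]
      rw [Subsingleton.elim ((1 : p.ResidueField) ⊗ₜ[A] y) 0, map_zero] at h1
      rw [show IsLocalRing.residue Sq c = c • (1 : q.ResidueField) from
        Algebra.algebraMap_eq_smul_one c, ← TensorProduct.smul_tmul']
      rw [← h1, smul_zero]
  exact Algebra.FormallyEtale.iff_formallyUnramified_and_formallySmooth.mpr ⟨inferInstance, inferInstance⟩

end Groth.Agent.SmoothQF
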